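import Cfsg.Agent.Lib.Comp.Fi22R.Tab

set_option maxRecDepth 100000
set_option Elab.async false

namespace Cfsg.Lib.Comp.Fi22.R78

open Cfsg.Lib.MatB Matrix

theorem s18 : ev mM [2, 4, 2, 4] = ev mM [] := mctx.weq mok (by decide +kernel)

theorem s19 : ev mM [2, 5, 2, 5] = ev mM [] := mctx.weq mok (by decide +kernel)

theorem s20 : ev mM [2, 6, 2, 6] = ev mM [] := mctx.weq mok (by decide +kernel)

theorem s21 : ev mM [2, 7, 2, 7] = ev mM [] := mctx.weq mok (by decide +kernel)

theorem s22 : ev mM [2, 8, 2, 8] = ev mM [] := mctx.weq mok (by decide +kernel)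

theorem s23 : ev mM [2, 9, 2, 9] = ev mM [] := mctx.weq mok (by decide +kernel)

theorem s24 : ev mM [3, 4, 3, 4, 3, 4] = ev mM [] := mctx.weq mok (by decide +kernel)

theorem s25 : ev mM [3, 5, 3, 5] = ev mM [] := mctx.weq mok (by decide +kernel)

theorem s26 : ev mM [3, 6, 3, 6] = ev mM [] := mctx.weq mok (by decide +kernel)

theorem s27 : ev mM [3, 7, 3, 7] = ev mM [] := mctx.weq mok (by decide +kernel)

theorem s28 : ev mM [3, 8, 3, 8] = ev mM [] := mctx.weq mok (by decide +kernel)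

theorem s29 : ev mM [3, 9, 3, 9] = ev mM [] := mctx.weq mok (by decide +kernel)

theorem s30 : ev mM [4, 5, 4, 5, 4, 5] = ev mM [] := mctx.weq mok (by decide +kernel)

end Cfsg.Lib.Comp.Fi22.R78
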