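import Cfsg.Agent.Lib.Comp.Fi22R.Tab

set_option maxRecDepth 100000
set_option Elab.async false

namespace Cfsg.Lib.Comp.Fi22.R78

open Cfsg.Lib.MatB Matrix

theorem s31 : ev mM [4, 6, 4, 6] = ev mM [] := mctx.weq mok (by decide +kernel)

theorem s32 : ev mM [4, 7, 4, 7] = ev mM [] := mctx.weq mok (by decide +kernel)

theorem s33 : ev mM [4, 8, 4, 8, 4, 8] = ev mM [] := mctx.weq mok (by decide +kernel)

theorem s34 : ev mM [4, 9, 4, 9] = ev mM [] := mctx.weq mok (by decide +kernel)

theorem s35 : ev mM [5, 6, 5, 6, 5, 6] = ev mM [] := mctx.weq mok (by decide +kernel)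

theorem s36 : ev mM [5, 7, 5, 7] = ev mM [] := mctx.weq mok (by decide +kernel)

theorem s37 : ev mM [5, 8, 5, 8] = ev mM [] := mctx.weq mok (by decide +kernel)

theorem s38 : ev mM [5, 9, 5, 9] = ev mM [] := mctx.weq mok (by decide +kernel)

theorem s39 : ev mM [6, 7, 6, 7, 6, 7] = ev mM [] := mctx.weq mok (by decide +kernel)

theorem s40 : ev mM [6, 8, 6, 8] = ev mM [] := mctx.weq mok (by decide +kernel)

theorem s41 : ev mM [6, 9, 6, 9] = ev mM [] := mctx.weq mok (by decide +kernel)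

theorem s42 : ev mM [7, 8, 7, 8] = ev mM [] := mctx.weq mok (by decide +kernel)

theorem s43 : ev mM [7, 9, 7, 9] = ev mM [] := mctx.weq mok (by decide +kernel)

end Cfsg.Lib.Comp.Fi22.R78
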