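import Cfsg.Agent.Lib.Comp.Fi22R.Tab

set_option maxRecDepth 100000
set_option Elab.async false

namespace Cfsg.Lib.Comp.Fi22.R78

open Cfsg.Lib.MatB Matrix

theorem s44 : ev mM [8, 9, 8, 9, 8, 9] = ev mM [] := mctx.weq mok (by decide +kernel)

theorem b0a : ev mM [4, 3, 2, 4, 5, 6, 4, 8, 9] = ev mM [10] := mctx.weq mok (by decide +kernel)

theorem b0b : ev mM [10, 10, 10] = ev mM [11] := mctx.weq mok (by decide +kernel)

theorem b0c : ev mM [11, 11, 11, 10] = ev mM [] := mctx.weq mok (by decide +kernel)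

theorem b1a : ev mM [1, 2, 3, 4, 5, 6, 8] = ev mM [12] := mctx.weq mok (by decide +kernel)

theorem b1b : ev mM [12, 12, 12] = ev mM [13] := mctx.weq mok (by decide +kernel)

theorem b1c : ev mM [13, 13, 13] = ev mM [] := mctx.weq mok (by decide +kernel)

theorem b2a : ev mM [2, 3, 4, 5, 6, 7, 8] = ev mM [14] := mctx.weq mok (by decide +kernel)

theorem b2b : ev mM [14, 14, 14] = ev mM [15] := mctx.weq mok (by decide +kernel)

theorem b2c : ev mM [15, 15, 15] = ev mM [] := mctx.weq mok (by decide +kernel)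

end Cfsg.Lib.Comp.Fi22.R78
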