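import Cfsg.Agent.Lib.Comp.Fi22R.R0
import Cfsg.Agent.Lib.Comp.Fi22R.R1
import Cfsg.Agent.Lib.Comp.Fi22R.R2
import Cfsg.Agent.Lib.Comp.Fi22R.R3
import Cfsg.Agent.Lib.Comp.Fi22.Main

set_option maxRecDepth 100000
set_option Elab.async false
set_option maxHeartbeats 200000

namespace Cfsg.Lib.Comp.Fi22.R78

open Cfsg.Lib.MatB Matrix

theorem p10 {Γ : Type*} [Monoid Γ] {γ : ℕ → Γ} {w : List ℕ} {a b : ℕ} (h1 : ev γ w = ev γ [a])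
    (h2 : ev γ [a, a, a] = ev γ [b]) (h3 : ev γ [b, b, b, a] = ev γ []) : ev γ w ^ (9 + 1) = ev γ [] := by
  simp only [ev_cons, ev_nil, mul_one] at h1 h2 h3 ⊢
  rw [h1, ← h3, ← h2]
  simp only [pow_succ', pow_zero, mul_one, mul_assoc]

theorem p9 {Γ : Type*} [Monoid Γ] {γ : ℕ → Γ} {w : List ℕ} {a b : ℕ} (h1 : ev γ w = ev γ [a])
    (h2 : ev γ [a, a, a] = ev γ [b]) (h3 : ev γ [b, b, b] = ev γ []) : ev γ w ^ (8 + 1) = ev γ [] := by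
  simp only [ev_cons, ev_nil, mul_one] at h1 h2 h3 ⊢
  rw [h1, ← h3, ← h2]
  simp only [pow_succ', pow_zero, mul_one, mul_assoc]

theorem sq {Γ : Type*} [Monoid Γ] {γ : ℕ → Γ} {a : ℕ} (h : ev γ [a, a] = ev γ []) : γ a * γ a = 1 := by
  simpa only [ev_cons, ev_nil, mul_one] using h

theorem pq {Γ : Type*} [Monoid Γ] {γ : ℕ → Γ} {w v : List ℕ} {e : ℕ} (h : ev γ v = ev γ []) (hv : pw w e = v) :
    ev γ w ^ (e + 1) = ev γ [] := by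
  rw [← ev_pw, hv, h]

theorem m00 : ev mM [0] = ev mM [] := mctx.weq mok (by decide +kernel)

theorem m0 : ev mM [] = mM 0 := m00.symm.trans (ev_single _ _)

def mR : List (List ℕ × ℕ) := [([1], 1), ([2], 1), ([3], 1), ([4], 1), ([5], 1), ([6], 1), ([7], 1), ([8], 1), ([9], 1), ([1, 2], 2), ([1, 3], 1), ([1, 4], 1), ([1, 5], 1), ([1, 6], 1), ([1, 7], 1), ([1, 8], 1), ([1, 9], 1), ([2, 3], 2), ([2, 4], 1), ([2, 5], 1), ([2, 6], 1), ([2, 7], 1), ([2, 8], 1), ([2, 9], 1), ([3, 4], 2), ([3, 5], 1), ([3, 6], 1), ([3, 7], 1), ([3, 8], 1), ([3, 9], 1), ([4, 5], 2), ([4, 6], 1), ([4, 7], 1), ([4, 8], 2), ([4, 9], 1), ([5, 6], 2), ([5, 7], 1), ([5, 8], 1), ([5, 9], 1), ([6, 7], 2), ([6, 8], 1), ([6, 9], 1), ([7, 8], 1), ([7, 9], 1), ([8, 9], 2), ([1, 1], 0), ([2, 2], 0), ([3, 3], 0), ([4, 4], 0), ([5, 5], 0), ([6, 6], 0), ([7, 7], 0), ([8, 8], 0), ([9,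 9], 0), ([4, 3, 2, 4, 5, 6, 4, 8, 9], 9), ([1, 2, 3, 4, 5, 6, 8], 8), ([2, 3, 4, 5, 6, 7, 8], 8)]

theorem mside : SideOK iv R mR L := by decide +kernel

theorem mrel' : ∀ r ∈ mR, ev mM r.1 ^ (r.2 + 1) = ev mM [] := by
  simp only [mR, List.forall_mem_cons]
  exact ⟨pq s0 rfl, pq s1 rfl, pq s2 rfl, pq s3 rfl, pq s4 rfl, pq s5 rfl, pq s6 rfl, pq s7 rfl, pq s8 rfl, pq s9 rfl, pq s10 rfl, pq s11 rfl, pq s12 rfl, pq s13 rfl, pq s14 rfl, pq s15 rfl, pq s16 rfl, pq s17 rfl, pq s18 rfl, pq s19 rfl, pq s20 rfl, pq s21 rfl, pq s22 rfl, pq s23 rfl, pq s24 rfl, pq s25 rfl, pq s26 rfl, pq s27 rfl, pq s28 rfl, pq s29 rfl, pq s30 rfl, pq s31 rfl, pq s32 rfl, pq s33 rfl, pq s34 rfl, pq s35 rfl, pq s36 rfl, pq s37 rfl, pq s38 rfl, pq s39 rfl, pq s40 rfl, pq s41 rfl, pq s42 rfl, pq s43 rfl, pq s44 rfl, pq s0 rfl, pq s1 rfl, pq s2 rfl, pq s3 rfl, pq s4 rfl, pq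 s5 rfl, pq s6 rfl, pq s7 rfl, pq s8 rfl, p10 b0a b0b b0c, p9 b1a b1b b1c, p9 b2a b2b b2c, by simp⟩

theorem mrel : ∀ r ∈ mR, ∃ z ∈ [0], ev mM r.1 ^ (r.2 + 1) = mM z :=
  fun r hr => ⟨0, List.mem_singleton_self 0, (mrel' r hr).trans m0⟩

theorem mgl {ι C : Type} [Fintype ι] [DecidableEq ι] [CommRing C] {M : ℕ → Matrix ι ι C} {x : ℕ}
    (h : ev M [x, x] = ev M []) : ∃ a : GL ι C, Units.coeHom _ a = (M x).map (RingHom.id _) :=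
  exists_gl (RingHom.id _) (B := M x) (sq h)

theorem mmem : ∀ x ∈ [1, 2, 3, 4, 5, 6, 7, 8, 9], ∃ a : GL (Fin 78) (ZMod 13), Units.coeHom _ a = (mM x).map (RingHom.id _) := by
  simp only [List.forall_mem_cons]
  exact ⟨mgl s0, mgl s1, mgl s2, mgl s3, mgl s4, mgl s5, mgl s6, mgl s7, mgl s8, by simp⟩

theorem m1 : mM 0 = 1 := m0.symm.trans (ev_nil _)

theorem emb : ∃ f : cl (gp nets) L →* GL (Fin 78) (ZMod 13), Function.Injective f :=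
  have := simple
  bridge_ex nets_iv nets_rel ord card mside (RingHom.id _) (fun _ _ h => h) (Units.coeHom _) Units.val_injective (M := mM)
    mmem m1 mrel (x := 1) (y := 2) (by decide) (by decide) (i := 0) (j := 0) (by decide +kernel)

end Cfsg.Lib.Comp.Fi22.R78
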