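import Cfsg.Agent.Lib.Comp.Fi22R.Tab

set_option maxRecDepth 100000
set_option Elab.async false

namespace Cfsg.Lib.Comp.Fi22.R78

open Cfsg.Lib.MatB Matrix

theorem s0 : ev mM [1, 1] = ev mM [] := mctx.weq mok (by decide +kernel)

theorem s1 : ev mM [2, 2] = ev mM [] := mctx.weq mok (by decide +kernel)

theorem s2 : ev mM [3, 3] = ev mM [] := mctx.weq mok (by decide +kernel)

theorem s3 : ev mM [4, 4] = ev mM [] := mctx.weq mok (by decide +kernel)

theorem s4 : ev mM [5, 5] = ev mM [] := mctx.weq mok (by decide +kernel)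

theorem s5 : ev mM [6, 6] = ev mM [] := mctx.weq mok (by decide +kernel)

theorem s6 : ev mM [7, 7] = ev mM [] := mctx.weq mok (by decide +kernel)

theorem s7 : ev mM [8, 8] = ev mM [] := mctx.weq mok (by decide +kernel)

theorem s8 : ev mM [9, 9] = ev mM [] := mctx.weq mok (by decide +kernel)

theorem s9 : ev mM [1, 2, 1, 2, 1, 2] = ev mM [] := mctx.weq mok (by decide +kernel)

theorem s10 : ev mM [1, 3, 1, 3] = ev mM [] := mctx.weq mok (by decide +kernel)

theorem s11 : ev mM [1, 4, 1, 4] = ev mM [] := mctx.weq mok (by decide +kernel)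

theorem s12 : ev mM [1, 5, 1, 5] = ev mM [] := mctx.weq mok (by decide +kernel)

theorem s13 : ev mM [1, 6, 1, 6] = ev mM [] := mctx.weq mok (by decide +kernel)

theorem s14 : ev mM [1, 7, 1, 7] = ev mM [] := mctx.weq mok (by decide +kernel)

theorem s15 : ev mM [1, 8, 1, 8] = ev mM [] := mctx.weq mok (by decide +kernel)

theorem s16 : ev mM [1, 9, 1, 9] = ev mM [] := mctx.weq mok (by decide +kernel)

theorem s17 : ev mM [2, 3, 2, 3, 2, 3] = ev mM [] := mctx.weq mok (by decide +kernel)

end Cfsg.Lib.Comp.Fi22.R78
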